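import Groth.Agent.TorusPairLib.Density
import Groth.Agent.MonoQuotLib.Orbit
import Groth.Agent.GrpFieldLib.Comps
import Groth.Agent.TorusLiftLib.Props

/-!
Central extensions of tori are commutative.
-/

set_option autoImplicit false
set_option linter.style.haveILetI false
set_option backward.isDefEq.respectTransparency false
set_option maxHeartbeats 1000000

noncomputable section

universe u

open CategoryTheory CategoryTheory.Limits MonoidalCategory CartesianMonoidalCategory AlgebraicGeometry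
open scoped MonObj

attribute [-instance] CategoryTheory.Hom.commGroup

namespace Groth.Agent.TorusPair

theorem pow_commute_eq {P : Type*} [Group P] {a b z : P} (hz : ∀ g, Commute z g) (h : a * b = z * (b * a)) (n : ℕ) :
    a ^ n * b = z ^ n * (b * a ^ n) := by
  induction n with
  | zero => simp
  | succ n ih =>
    rw [pow_succ' a, mul_assoc, ih, ← mul_assoc a, ((hz a).pow_left n).symm.eq, mul_assoc, ← mul_assoc a b, h,
      mul_assoc z, mul_assoc b, ← mul_assoc (z ^ n), ← pow_succ]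

theorem commute_of_coprime {P : Type*} [Group P] {a b : P} {m n : ℕ} (hmn : Nat.Coprime m n)
    (hz : ∀ g, Commute (a * b * a⁻¹ * b⁻¹) g) (ha : ∀ g, Commute (a ^ m) g) (hb : ∀ g, Commute (b ^ n) g) :
    a * b * a⁻¹ * b⁻¹ = 1 := by
  set z := a * b * a⁻¹ * b⁻¹ with hzd
  have h : a * b = z * (b * a) := by rw [hzd]; group
  have h1 : z ^ m = 1 := by
    have e := pow_commute_eq hz h m
    rw [(ha b).eq] at e
    exact mul_eq_right.mp e.symm
  have h2 : z ^ n = 1 := by
    have h' : b * a = z⁻¹ * (a * b) := by rw [h]; group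
    have e := pow_commute_eq (fun g => (hz g).inv_left) h' n
    rw [(hb a).eq] at e
    simpa using mul_eq_right.mp e.symm
  have := orderOf_dvd_of_pow_eq_one h1
  have h3 : orderOf z ∣ 1 := by
    rw [← hmn.gcd_eq_one]
    exact Nat.dvd_gcd this (orderOf_dvd_of_pow_eq_one h2)
  exact orderOf_eq_one_iff.mp (Nat.dvd_one.mp h3)

theorem comm_of_quotient {k : Type u} [Field k] {G T : Over (Spec (CommRingCat.of k))} [GrpObj G] [GrpObj T]
    [IsSeparated G.hom] (hT : Red.IsTorus T) (q : G ⟶ T) [IsMonHom q] [Flat q.left]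
    [LocallyOfFinitePresentation q.left] [Surjective q.left]
    (hz : ∀ {X : Over (Spec (CommRingCat.of k))} (z : X ⟶ G), z ≫ q = 1 → ∀ g : X ⟶ G, Commute z g) :
    ∀ (X : Over (Spec (CommRingCat.of k))) (g h : X ⟶ G), g * h = h * g := by
  let φ : ∀ X : Over (Spec (CommRingCat.of k)), (X ⟶ G) →* (X ⟶ T) := IsMonHom.monoidHom q
  have hc : ∀ {X} (a b : X ⟶ G), (a * b * a⁻¹ * b⁻¹) ≫ q = 1 := by
    intro X a b
    show φ X (a * b * a⁻¹ * b⁻¹) = 1
    rw [map_mul, map_mul, map_mul, map_inv, map_inv, TorusLift.commute_of_torus hT (φ X a) (φ X b)]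
    group
  have hinv : ∀ {X} (a b a' b' : X ⟶ G), a ≫ q = a' ≫ q → b ≫ q = b' ≫ q →
      a * b * a⁻¹ * b⁻¹ = a' * b' * a'⁻¹ * b'⁻¹ := by
    intro X a b a' b' ha hb
    have hx : ∀ g, Commute (a⁻¹ * a') g := hz _ (by
      show φ X (a⁻¹ * a') = 1
      rw [map_mul, map_inv, show φ X a = φ X a' from ha, inv_mul_cancel])
    have hy : ∀ g, Commute (b⁻¹ * b') g := hz _ (by
      show φ X (b⁻¹ * b') = 1
      rw [map_mul, map_inv, show φ X b = φ X b' from hb, inv_mul_cancel])
    obtain ⟨x, rfl⟩ : ∃ x, a' = a * x := ⟨a⁻¹ * a', by group⟩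
    obtain ⟨y, rfl⟩ : ∃ y, b' = b * y := ⟨b⁻¹ * b', by group⟩
    simp only [inv_mul_cancel_left] at hx hy
    symm
    calc (a * x) * (b * y) * (a * x)⁻¹ * (b * y)⁻¹ = a * (x * b) * (y * (x⁻¹ * a⁻¹) * y⁻¹) * b⁻¹ := by group
      _ = a * (b * x) * (x⁻¹ * a⁻¹) * b⁻¹ := by rw [(hx b).eq, (hy (x⁻¹ * a⁻¹)).eq, mul_inv_cancel_right]
      _ = a * b * a⁻¹ * b⁻¹ := by group
  let c : G ⊗ G ⟶ G := fst G G * snd G G * (fst G G)⁻¹ * (snd G G)⁻¹
  have hcl : ∀ {X} (a b : X ⟶ G), lift a b ≫ c = a * b * a⁻¹ * b⁻¹ := fun a b => by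
    simp [c, MonObj.comp_mul, GrpObj.comp_inv]
  obtain ⟨_, _, _⟩ := MonoQuot.fppf_tensor q q
  obtain ⟨C, hC⟩ := MonoQuot.exists_desc_over (q ⊗ₘ q) c fun Y a b h => by
    rw [← lift_comp_fst_snd a, ← lift_comp_fst_snd b, hcl, hcl]
    exact hinv _ _ _ _ (by simpa using congrArg (· ≫ fst T T) h) (by simpa using congrArg (· ≫ snd T T) h)
  have key : ∀ {Y : Over (Spec (CommRingCat.of k))} (t s : Y ⟶ T) (i j : ℕ), t ^ (2 ^ i) = 1 → s ^ (3 ^ j) = 1 →
      lift t s ≫ C = 1 := by
    intro Y t s i j ht hs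
    let Y' := pullback (lift t s) (q ⊗ₘ q)
    let π : Y' ⟶ Y := pullback.fst _ _
    have hp : IsPullback π.left (pullback.snd (lift t s) (q ⊗ₘ q)).left (lift t s).left (q ⊗ₘ q).left :=
      (IsPullback.of_hasPullback (lift t s) (q ⊗ₘ q)).map (Over.forget _)
    haveI : Flat π.left := MorphismProperty.of_isPullback hp.flip inferInstance
    haveI : LocallyOfFinitePresentation π.left := MorphismProperty.of_isPullback hp.flip inferInstance
    haveI : Surjective π.left := MorphismProperty.of_isPullback hp.flip inferInstance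
    haveI := MonoQuot.epi_over π
    have hw : π ≫ lift t s = pullback.snd (lift t s) (q ⊗ₘ q) ≫ (q ⊗ₘ q) := pullback.condition
    rw [← cancel_epi π, ← Category.assoc, hw, Category.assoc, hC, MonObj.comp_one,
      ← lift_comp_fst_snd (pullback.snd (lift t s) (q ⊗ₘ q)), hcl]
    set a := pullback.snd (lift t s) (q ⊗ₘ q) ≫ fst G G with had
    set b := pullback.snd (lift t s) (q ⊗ₘ q) ≫ snd G G with hbd
    have ha : a ≫ q = π ≫ t := by
      have := congrArg (· ≫ fst T T) hw
      simpa [had] using this.symm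
    have hb : b ≫ q = π ≫ s := by
      have := congrArg (· ≫ snd T T) hw
      simpa [hbd] using this.symm
    refine commute_of_coprime (m := 2 ^ i) (n := 3 ^ j) (Nat.Coprime.pow _ _ (by norm_num)) (hz _ (hc a b))
      (hz _ ?_) (hz _ ?_)
    · show φ _ (a ^ (2 ^ i)) = 1
      rw [map_pow, show φ _ a = π ≫ t from ha, ← MonObj.comp_pow, ht, MonObj.comp_one]
    · show φ _ (b ^ (3 ^ j)) = 1
      rw [map_pow, show φ _ b = π ≫ s from hb, ← MonObj.comp_pow, hs, MonObj.comp_one]
  have half : ∀ {Y : Over (Spec (CommRingCat.of k))} (s : Y ⟶ T) (j : ℕ), s ^ (3 ^ j) = 1 →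
      ∀ t : Y ⟶ T, lift t s ≫ C = 1 := by
    intro Y s j hs t
    have e : (T ◁ s) ≫ C = 1 := ext_torsion hT (q := 2) one_lt_two _ _ fun Z t' y i ht' => by
      rw [lift_whiskerLeft_assoc, MonObj.comp_one]
      exact key t' (y ≫ s) i j ht' (by rw [← MonObj.comp_pow, hs, MonObj.comp_one])
    have := congrArg (lift t (𝟙 Y) ≫ ·) e
    simpa using this
  have hC1 : C = 1 := by
    haveI : IsIso (β_ T T).hom := inferInstance
    rw [← cancel_epi (β_ T T).hom, MonObj.comp_one]
    exact ext_torsion hT (q := 3) (by norm_num) _ _ fun Z s t j hs => by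
      rw [MonObj.comp_one, lift_braiding_hom_assoc]
      exact half s j hs t
  intro X g h
  have e := hcl g h
  rw [← hC, hC1, MonObj.comp_one, MonObj.comp_one] at e
  calc g * h = (g * h * g⁻¹ * h⁻¹) * (h * g) := by group
    _ = h * g := by rw [← e, _root_.one_mul]

end Groth.Agent.TorusPair
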