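import Groth.Agent.TorusLiftLib.TorsionSub
import Groth.Agent.TorusLiftLib.Glue

/-!
Morphisms out of a product with a torus are determined on the torsion of prime power order.
-/

set_option autoImplicit false
set_option linter.style.haveILetI false
set_option backward.isDefEq.respectTransparency false
set_option maxHeartbeats 1000000
set_option synthInstance.maxHeartbeats 400000
set_option synthInstance.maxSize 4000
set_option maxSynthPendingDepth 4

noncomputable section

universe u

open CategoryTheory CategoryTheory.Limits MonoidalCategory CartesianMonoidalCategory AlgebraicGeometry CoactBr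
open scoped MonObj TensorProduct

attribute [-instance] CategoryTheory.Hom.commGroup

namespace Groth.Agent.TorusPair

attribute [local instance] CoactBr.braidedAlgSpecOf

open Groth.Agent.FreeAct (DA)
open Groth.Agent.TorusLift
open TorsLim (push)

/-- Adjoint points of torsion points are torsion points. -/
theorem pow_adjoint {S' S : Scheme.{u}} (p : S' ⟶ S) {T : Over S} [GrpObj T] {Y : Over S'} (y : Y ⟶ Red.bc p T)
    {n : ℕ} (hy : y ^ n = 1) (x : (Over.map p).obj Y ⟶ T) (hx : x.left = y.left ≫ pullback.fst T.hom p) :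
    x ^ n = 1 := by
  let e := (Over.mapPullbackAdj p).homEquiv Y T
  have hm : ∀ a b, e (a * b) = e a * e b := fun a b => by
    rw [Adjunction.homEquiv_unit, Adjunction.homEquiv_unit, Adjunction.homEquiv_unit,
      show (Over.pullback p).map (a * b) = (Over.pullback p).map a * (Over.pullback p).map b from
        map_mul (Over.pullback p).homMonoidHom a b, MonObj.comp_mul]
  have h1 : e 1 = 1 := by
    rw [Adjunction.homEquiv_unit, show (Over.pullback p).map (1 : (Over.map p).obj Y ⟶ T) = 1 from
      map_one (Over.pullback p).homMonoidHom, MonObj.comp_one]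
  have hey : e x = y := by
    rw [Equiv.apply_eq_iff_eq_symm_apply]
    exact Over.OverMorphism.ext hx
  let φ : ((Over.map p).obj Y ⟶ T) →* (Y ⟶ Red.bc p T) := ⟨⟨e, h1⟩, hm⟩
  refine e.injective ?_
  rw [h1]
  show φ (x ^ n) = 1
  rw [map_pow]
  show (e x) ^ n = 1
  rw [hey, hy]

/-- Torsion sections of a split torus of prime power order are jointly epimorphic for separated targets. -/
theorem ext_push {B : Type u} [CommRing B] {r q : ℕ} (hq : 1 < q) {Z S : Scheme.{u}} (g : Z ⟶ S) [IsSeparated g]
    (f f' : Spec (CommRingCat.of (DA B (Fin r → ℤ))) ⟶ Z) (hg : f ≫ g = f' ≫ g)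
    (h : ∀ k, (pt (push (A := B) B (modPow r (q ^ k)))).left ≫ f = (pt (push (A := B) B (modPow r (q ^ k)))).left ≫ f') :
    f = f' := by
  let M := DA B (Fin r → ℤ)
  let m : Spec (CommRingCat.of M) ⟶ pullback g g := pullback.lift f f' hg
  let i := pullback.snd (pullback.diagonal g) m
  haveI : IsClosedImmersion i := MorphismProperty.pullback_snd _ _ inferInstance
  obtain ⟨I, ei, hei⟩ := IsClosedImmersion.Spec_iff.mp (inferInstance : IsClosedImmersion i)
  let ρ : CommRingCat.of M ⟶ CommRingCat.of (M ⧸ I) := CommRingCat.ofHom (Ideal.Quotient.mk I)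
  have hρ : Spec.map ρ = ei.inv ≫ i := by rw [hei, Iso.inv_hom_id_assoc]
  have hρs : Function.Surjective ρ.hom := Ideal.Quotient.mk_surjective
  have hinj : Function.Injective ρ.hom := by
    rw [injective_iff_map_eq_zero]
    intro a ha
    refine TorsLim.ext_of_forall (fun k => modPow r (q ^ k)) (modPow_sep hq) (y := 0) fun k => ?_
    let t := (pt (push (A := B) B (modPow r (q ^ k)))).left
    have hl : (t ≫ f) ≫ pullback.diagonal g = t ≫ m := by
      refine pullback.hom_ext ?_ ?_
      · simp [m]
      · simp only [m, Category.assoc, pullback.diagonal_snd, pullback.lift_snd, Category.comp_id]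
        exact h k
    let l := pullback.lift (t ≫ f) t hl
    have hfac : ρ ≫ Spec.preimage (l ≫ ei.hom) =
        CommRingCat.ofHom (push (A := B) B (modPow r (q ^ k))).toRingHom := by
      refine Spec.map_injective ?_
      rw [Spec.map_comp, Spec.map_preimage, hρ, Category.assoc, Iso.hom_inv_id_assoc]
      exact pullback.lift_snd _ _ _
    have := ConcreteCategory.congr_hom hfac a
    simp only [CommRingCat.hom_comp, RingHom.comp_apply, ha, map_zero] at this
    rw [MonoidAlgebra.mapDomain_zero]
    exact this.symm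
  haveI : IsIso ρ := (ConcreteCategory.isIso_iff_bijective ρ).mpr ⟨hinj, hρs⟩
  haveI : IsIso i := by
    rw [show i = ei.hom ≫ Spec.map ρ by rw [hρ, Iso.hom_inv_id_assoc]]
    infer_instance
  have hc : i ≫ m = pullback.fst (pullback.diagonal g) m ≫ pullback.diagonal g := pullback.condition.symm
  rw [← cancel_epi i]
  calc i ≫ f = pullback.fst (pullback.diagonal g) m := by
        have := congrArg (· ≫ pullback.fst g g) hc; simpa [m] using this
    _ = i ≫ f' := by
        have := congrArg (· ≫ pullback.snd g g) hc; simpa [m] using this.symm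

/-- Morphisms on the product with a torus agree once they agree on the torsion of prime power order. -/
theorem ext_torsion {S : Scheme.{u}} {T X G : Over S} [GrpObj T] (hT : Red.IsTorus T) [IsSeparated G.hom]
    {q : ℕ} (hq : 1 < q) (f f' : T ⊗ X ⟶ G)
    (h : ∀ (Y : Over S) (t : Y ⟶ T) (x : Y ⟶ X) (i : ℕ), t ^ (q ^ i) = 1 → lift t x ≫ f = lift t x ≫ f') :
    f = f' := by
  obtain ⟨S', c, hflat, hsurj, -, hloc⟩ := id hT
  haveI := hflat; haveI := hsurj
  refine Over.OverMorphism.ext ?_
  let Xc := pullback X.hom c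
  let π : pullback T.hom (pullback.fst X.hom c ≫ X.hom) ⟶ (T ⊗ X).left :=
    pullback.map _ _ _ _ (𝟙 _) (pullback.fst X.hom c) (𝟙 _) (by simp) (by simp)
  have hπ : IsPullback π (pullback.snd T.hom (pullback.fst X.hom c ≫ X.hom)) (pullback.snd T.hom X.hom)
      (pullback.fst X.hom c) := by
    refine IsPullback.of_right ?_ (pullback.lift_snd _ _ _) (IsPullback.of_hasPullback T.hom X.hom)
    rw [show π ≫ pullback.fst T.hom X.hom = pullback.fst _ _ from (pullback.lift_fst _ _ _).trans (Category.comp_id _)]
    exact IsPullback.of_hasPullback _ _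
  haveI : Flat π := MorphismProperty.of_isPullback hπ.flip inferInstance
  haveI : Surjective π := MorphismProperty.of_isPullback hπ.flip inferInstance
  haveI := Flat.epi_of_flat_of_surjective π
  rw [← cancel_epi π]
  choose V hxV hV using fun x : Xc => exists_good c hloc (pullback.snd X.hom c) x
  let s := pullback.snd T.hom (pullback.fst X.hom c ≫ X.hom)
  refine Scheme.Cover.hom_ext (Scheme.openCoverOfIsOpenCover _ (fun x => s ⁻¹ᵁ (V x).1)
    (eq_top_iff.mpr fun z _ => TopologicalSpace.Opens.mem_iSup.mpr ⟨s z, hxV (s z)⟩)) _ _ fun x => ?_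
  show (s ⁻¹ᵁ (V x).1).ι ≫ _ = (s ⁻¹ᵁ (V x).1).ι ≫ _
  obtain ⟨r, -, -, -, e, he⟩ := hV x
  let p := (V x).2.fromSpec ≫ pullback.snd X.hom c ≫ c
  have hp : (V x).2.fromSpec ≫ pullback.fst X.hom c ≫ X.hom = p := by rw [pullback.condition]
  let σ : pullback T.hom p ⟶ pullback T.hom (pullback.fst X.hom c ≫ X.hom) :=
    pullback.map _ _ _ _ (𝟙 _) (V x).2.fromSpec (𝟙 _) (by simp) (by rw [Category.comp_id, hp])
  have hσ : Set.range (s ⁻¹ᵁ (V x).1).ι.base ⊆ Set.range σ.base := by
    rw [Scheme.Opens.range_ι]
    have hsq : IsPullback σ (pullback.snd T.hom p) s (V x).2.fromSpec := by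
      refine IsPullback.of_right ?_ (pullback.lift_snd _ _ _) (IsPullback.of_hasPullback T.hom _)
      rw [show σ ≫ pullback.fst T.hom (pullback.fst X.hom c ≫ X.hom) = pullback.fst _ _ from
        (pullback.lift_fst _ _ _).trans (Category.comp_id _), hp]
      exact IsPullback.of_hasPullback _ _
    intro z hz
    obtain ⟨v, hv⟩ : s z ∈ Set.range (V x).2.fromSpec.base := (V x).2.range_fromSpec.symm ▸ hz
    obtain ⟨w, hw, -⟩ := Scheme.exists_preimage_of_isPullback hsq z v hv.symm
    exact ⟨w, hw⟩
  haveI : IsOpenImmersion σ := inferInstance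
  rw [← IsOpenImmersion.lift_fac σ _ hσ, Category.assoc, Category.assoc]
  congr 1
  let el : Spec (CommRingCat.of (DA _ (Fin r → ℤ))) ⟶ pullback T.hom p := e.hom.left
  haveI : IsIso el := ((Over.forget _).mapIso e).isIso_hom
  rw [← cancel_epi el]
  refine ext_push hq G.hom _ _ (by simp only [Category.assoc, Over.w]) fun i => ?_
  let N := sp Γ(Xc, (V x).1) (MonoidAlgebra Γ(Xc, (V x).1) (Multiplicative (Fin r → ZMod (q ^ i))))
  let w : N ⟶ sp Γ(Xc, (V x).1) (DA Γ(Xc, (V x).1) (Fin r → ℤ)) := pt (push (A := Γ(Xc, (V x).1)) _ (modPow r (q ^ i)))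
  haveI : NeZero (q ^ i) := ⟨by positivity⟩
  have hN : (𝟙 N) ^ (q ^ i) = 1 := by
    show (𝟙 (sp _ (DA _ (Fin r → ZMod (q ^ i))))) ^ (q ^ i) = 1
    rw [MultTorus.pow_pt_id, ← DiagRep.pt_one]
    refine congrArg pt (MonoidAlgebra.algHom_ext (fun v => ?_) (Subsingleton.elim _ _))
    have e0 : (q ^ i) • Multiplicative.toAdd v = (0 : Fin r → ZMod (q ^ i)) := funext fun l => by
      simp only [Pi.smul_apply, nsmul_eq_mul, Pi.zero_apply]
      rw [ZMod.natCast_self, zero_mul]
    simp [MultTorus.mapChar, e0, MonoidAlgebra.one_def]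
  let y : N ⟶ Red.bc p T := w ≫ e.hom
  haveI hwm : IsMonHom w := TorsLim.isMonHom_push (A := Γ(Xc, (V x).1)) (modPow r (q ^ i))
  haveI hym : IsMonHom y := isMonHom_comp hwm he
  have hy : y ^ (q ^ i) = 1 := by
    have h0 := pow_comp_hom (𝟙 N) y (q ^ i)
    rw [hN, MonObj.one_comp, Category.id_comp] at h0
    exact h0.symm
  let t : (Over.map p).obj N ⟶ T := Over.homMk (y.left ≫ pullback.fst T.hom p) (by
    show (y.left ≫ pullback.fst T.hom p) ≫ T.hom = N.hom ≫ p
    rw [Category.assoc, pullback.condition, ← Category.assoc]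
    exact congrArg (· ≫ p) (Over.w y))
  let xx : (Over.map p).obj N ⟶ X := Over.homMk (N.hom ≫ (V x).2.fromSpec ≫ pullback.fst X.hom c) (by
    show (N.hom ≫ (V x).2.fromSpec ≫ pullback.fst X.hom c) ≫ X.hom = N.hom ≫ p
    rw [Category.assoc, Category.assoc, hp])
  have hl : (lift t xx).left = w.left ≫ el ≫ σ ≫ π := by
    have h1 : y.left = w.left ≫ el := rfl
    refine pullback.hom_ext ?_ ?_
    · refine (congrArg Over.Hom.left (lift_fst t xx)).trans ?_
      show y.left ≫ pullback.fst T.hom p = _
      simp [h1, σ, π]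
    · refine (congrArg Over.Hom.left (lift_snd t xx)).trans ?_
      show N.hom ≫ (V x).2.fromSpec ≫ pullback.fst X.hom c = _
      rw [← Over.w y, h1]
      simp [σ, π]
  have h2 := congrArg Over.Hom.left (h _ t xx i (pow_adjoint p y hy t rfl))
  rw [Over.comp_left, Over.comp_left, hl] at h2
  simp only [Category.assoc] at h2
  exact h2

end Groth.Agent.TorusPair
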